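import Mathlib.AlgebraicGeometry.Limits
import Mathlib.AlgebraicGeometry.ResidueField
import Mathlib.AlgebraicGeometry.PullbackCarrier
import Mathlib.Algebra.Category.Ring.Epi
import Mathlib.LinearAlgebra.Basis.VectorSpace
import Mathlib.LinearAlgebra.Dual.Lemmas
import Mathlib.LinearAlgebra.TensorProduct.Basic

/-!
Monomorphisms into spectra of fields and into coproducts of spectra of fields.
-/

universe u

open CategoryTheory CategoryTheory.Limits AlgebraicGeometry TensorProduct

namespace Groth.Agent.MonoField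

lemma surjective_algebraMap_of_isEpi (K L : Type*) [Field K] [Field L] [Algebra K L]
    [Algebra.IsEpi K L] : Function.Surjective (algebraMap K L) := by
  intro x
  by_contra hx
  have hx' : x ∉ Submodule.span K {(1 : L)} := by
    intro h
    obtain ⟨c, hc⟩ := Submodule.mem_span_singleton.1 h
    exact hx ⟨c, by rw [Algebra.algebraMap_eq_smul_one, hc]⟩
  obtain ⟨φ, hφx, hφ⟩ := Submodule.exists_dual_map_eq_bot_of_notMem hx' inferInstance
  have h1 : φ 1 = 0 := by
    have : φ 1 ∈ (Submodule.span K {(1 : L)}).map φ :=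
      ⟨1, Submodule.mem_span_singleton_self _, rfl⟩
    rwa [hφ, Submodule.mem_bot] at this
  have e : (1 : L) ⊗ₜ[K] x = x ⊗ₜ[K] 1 := (Algebra.isEpi_iff_forall_one_tmul_eq K L).1 inferInstance x
  have := congrArg (fun t => TensorProduct.lid K L (φ.rTensor L t)) e
  simp [h1] at this
  have h2 : (φ x) • (1 : L) = 0 := this.symm
  rcases smul_eq_zero.1 h2 with h | h
  · exact hφx h
  · exact one_ne_zero h

lemma bijective_of_mono_SpecMap {K L : Type u} [Field K] [Field L] (φ : K →+* L)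
    [Mono (Spec.map (CommRingCat.ofHom φ))] : Function.Bijective φ := by
  refine ⟨φ.injective, ?_⟩
  letI := φ.toAlgebra
  haveI : Epi (CommRingCat.ofHom (algebraMap K L)) := ⟨fun {Z} a b h => by
    apply Spec.map_injective
    rw [← cancel_mono (Spec.map (CommRingCat.ofHom φ)), ← Spec.map_comp, ← Spec.map_comp]
    exact congrArg Spec.map h⟩
  haveI : Algebra.IsEpi K L := CommRingCat.epi_iff_epi.1 ‹_›
  exact surjective_algebraMap_of_isEpi K L

/-- A monomorphism into the spectrum of a field with nonempty source has a section. -/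
lemma exists_section {Z : Scheme.{u}} (K : Type u) [Field K] (g : Z ⟶ Spec (CommRingCat.of K))
    [Mono g] (z : Z) : ∃ s : Spec (CommRingCat.of K) ⟶ Z, s ≫ g = 𝟙 _ := by
  obtain ⟨φ, hφ⟩ := Spec.map_surjective (Z.fromSpecResidueField z ≫ g)
  haveI : Mono (Spec.map (CommRingCat.ofHom φ.hom)) := by
    rw [CommRingCat.ofHom_hom, hφ]; infer_instance
  haveI : IsIso φ := (ConcreteCategory.isIso_iff_bijective _).2 (bijective_of_mono_SpecMap φ.hom)
  exact ⟨Spec.map (inv φ) ≫ Z.fromSpecResidueField z, by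
    rw [Category.assoc, ← hφ, ← Spec.map_comp, IsIso.hom_inv_id, Spec.map_id]⟩

theorem exists_iso_sigma {ι : Type u} (k : ι → Type u) [∀ i, Field (k i)]
    {Y : Scheme.{u}} (f : Y ⟶ ∐ fun i => Spec (CommRingCat.of (k i))) [Mono f] :
    ∃ (J : Set ι) (e : Y ≅ ∐ fun j : J => Spec (CommRingCat.of (k j.1))),
      e.hom ≫ Sigma.desc (fun j : J => Sigma.ι (fun i => Spec (CommRingCat.of (k i))) j.1) = f := by
  let g := fun i => Spec (CommRingCat.of (k i))
  let J : Set ι := {i | ∃ y, f y ∈ Set.range (Sigma.ι g i)}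
  have hs : ∀ j : J, ∃ s : g j.1 ⟶ Y, s ≫ f = Sigma.ι g j.1 := by
    rintro ⟨i, y, x, hx⟩
    haveI : Mono (pullback.snd f (Sigma.ι g i)) := inferInstance
    obtain ⟨z, -, -⟩ := Scheme.Pullback.exists_preimage_pullback (f := f) (g := Sigma.ι g i) y x hx.symm
    obtain ⟨s, hs⟩ := exists_section (k i) (pullback.snd f (Sigma.ι g i)) z
    exact ⟨s ≫ pullback.fst _ _, by rw [Category.assoc, pullback.condition, reassoc_of% hs]⟩
  choose s hs using hs
  let d : (∐ fun j : J => g j.1) ⟶ ∐ g := Sigma.desc fun j => Sigma.ι g j.1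
  haveI : ∀ i, IsOpenImmersion (Sigma.ι g i) := fun i =>
    (sigmaOpenCover g).map_prop i
  haveI : IsOpenImmersion d := by
    apply isOpenImmersion_sigmaDesc
    intro a b hab
    have := disjoint_opensRange_sigmaι g a.1 b.1 (fun h => hab (Subtype.ext h))
    show Disjoint (Set.range (Sigma.ι g a.1)) (Set.range (Sigma.ι g b.1))
    rw [Set.disjoint_left]
    rintro z ⟨x, rfl⟩ ⟨y, hy⟩
    exact hab (Subtype.ext (congrArg Sigma.fst ((sigmaι_eq_iff g _ _ _ _).mp hy)).symm)
  have hr : Set.range f ⊆ Set.range d := by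
    rintro _ ⟨y, rfl⟩
    obtain ⟨i, x, hx⟩ : ∃ (i : ι) (x : g i), Sigma.ι g i x = f y := (sigmaOpenCover g).exists_eq (f y)
    exact ⟨Sigma.ι (fun j : J => g j.1) ⟨i, y, x, hx⟩ x, by
      rw [← Scheme.Hom.comp_apply, Sigma.ι_desc]; exact hx⟩
  have hinv : Sigma.desc s ≫ f = d := Sigma.hom_ext _ _ fun j => by simp [d, hs]
  refine ⟨J, ⟨IsOpenImmersion.lift d f hr, Sigma.desc s, ?_, ?_⟩, IsOpenImmersion.lift_fac _ _ _⟩
  · rw [← cancel_mono f, Category.assoc, hinv, IsOpenImmersion.lift_fac, Category.id_comp]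
  · rw [← cancel_mono d, Category.assoc, IsOpenImmersion.lift_fac, hinv, Category.id_comp]

theorem exists_iso_spec {ι : Type u} [Finite ι] (k : ι → Type u) [∀ i, Field (k i)]
    {X : Scheme.{u}} (f : X ⟶ Spec (CommRingCat.of (Π i, k i))) [Mono f] :
    ∃ (I : Set ι) (e : X ≅ Spec (CommRingCat.of (Π i : I, k i))),
      e.hom ≫ Spec.map (CommRingCat.ofHom (Pi.ringHom fun i : I => Pi.evalRingHom k i.1)) = f := by
  let R : ι → CommRingCat.{u} := fun i => CommRingCat.of (k i)
  obtain ⟨J, e, he⟩ := exists_iso_sigma k (f ≫ inv (sigmaSpec R))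
  refine ⟨J, e ≪≫ asIso (sigmaSpec fun j : J => R j.1), ?_⟩
  have key : sigmaSpec (fun j : J => R j.1) ≫
      Spec.map (CommRingCat.ofHom (Pi.ringHom fun i : J => Pi.evalRingHom k i.1)) =
      Sigma.desc (fun j : J => Sigma.ι (fun i => Spec (CommRingCat.of (k i))) j.1) ≫ sigmaSpec R := by
    apply Sigma.hom_ext
    intro j
    rw [Sigma.ι_desc_assoc, ι_sigmaSpec_assoc, ι_sigmaSpec, ← Spec.map_comp]
    rfl
  rw [Iso.trans_hom, Category.assoc, asIso_hom]
  erw [key]
  rw [reassoc_of% he, IsIso.inv_hom_id, Category.comp_id]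

end Groth.Agent.MonoField
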